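import Cfsg.Agent.H46.TypeE6
import Cfsg.Agent.H46.Commutator

/-!
The Weyl group stabiliser of the residues of the element of order five.
-/

set_option autoImplicit false
set_option maxRecDepth 20000

namespace Cfsg.Agent.H46.E6O5

open Cfsg.Lie

/-- The value of a root on the element of order five, as an exponent. -/
def chi (s : ℕ) : ℤ := 2 * goodE6.tab.cart 6 0 s + goodE6.tab.cart 6 5 s

/-- The residue of that value. -/
def res (s : ℕ) : ℤ := chi s % 5

/-- The roots of the subsystem of type A₃. -/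
def roots3 : List ℕ := [39, 46, 47, 69, 70, 71, 32, 25, 24, 2, 1, 0]

theorem res_zero : ∀ s : Fin chevE6.nroots, (5 : ℤ) ∣ chi s → (s : ℕ) ∈ roots3 := by decide +kernel

theorem chi_zero : ∀ r ∈ roots3, (5 : ℤ) ∣ chi r := by decide +kernel

/-- The roots with the residue of a fundamental root. -/
def cand : List (List ℕ) := [[3, 7, 9, 12, 22, 30, 33, 37, 40, 45, 48, 52, 54, 56, 67],
  [0, 1, 2, 24, 25, 32, 39, 46, 47, 69, 70, 71],
  [5, 10, 13, 14, 18, 20, 27, 35, 42, 43, 50, 55, 60, 63, 65],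
  [0, 1, 2, 24, 25, 32, 39, 46, 47, 69, 70, 71],
  [3, 7, 9, 12, 22, 30, 33, 37, 40, 45, 48, 52, 54, 56, 67],
  [6, 8, 11, 16, 21, 28, 29, 36, 44, 51, 53, 57, 58, 61, 66]]

theorem cand_spec : ∀ j : Fin 6, ∀ s : Fin chevE6.nroots, res s = res (chevE6.simple j) →
    (s : ℕ) ∈ cand.getD j [] := by decide +kernel

/-- The words of the three reflections generating the stabiliser. -/
def refW : List (List (Fin 6)) := [[1], [3], [1, 3, 4, 5, 2, 3, 4, 0, 2, 3, 1, 3, 2, 0, 4, 3, 2, 5, 4, 3, 1]]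

/-- The images of the fundamental roots under the stabiliser, with words. -/
def sols : List (List ℕ × List ℕ) := [
  ([56, 46, 42, 39, 37, 36], []),
  ([56, 25, 42, 47, 37, 36], [0]),
  ([56, 47, 43, 32, 40, 36], [1]),
  ([56, 1, 42, 39, 37, 36], [2]),
  ([56, 24, 43, 46, 40, 36], [1, 0]),
  ([56, 70, 42, 2, 37, 36], [2, 0]),
  ([56, 39, 50, 24, 48, 36], [0, 1]),
  ([56, 2, 43, 32, 40, 36], [2, 1]),
  ([56, 0, 42, 47, 37, 36], [0, 2]),
  ([56, 32, 50, 25, 48, 36], [0, 1, 0]),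
  ([56, 69, 43, 1, 40, 36], [2, 1, 0]),
  ([56, 71, 42, 2, 37, 36], [0, 2, 0]),
  ([56, 39, 5, 69, 3, 36], [2, 0, 1]),
  ([56, 2, 50, 24, 48, 36], [0, 2, 1]),
  ([56, 0, 43, 46, 40, 36], [1, 0, 2]),
  ([56, 32, 5, 70, 3, 36], [2, 0, 1, 0]),
  ([56, 69, 50, 0, 48, 36], [0, 2, 1, 0]),
  ([56, 71, 43, 1, 40, 36], [1, 0, 2, 0]),
  ([56, 47, 5, 69, 3, 36], [0, 2, 0, 1]),
  ([56, 1, 50, 25, 48, 36], [1, 0, 2, 1]),
  ([56, 24, 5, 71, 3, 36], [0, 2, 0, 1, 0]),
  ([56, 70, 50, 0, 48, 36], [1, 0, 2, 1, 0]),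
  ([56, 46, 5, 70, 3, 36], [1, 0, 2, 0, 1]),
  ([56, 25, 5, 71, 3, 36], [1, 0, 2, 0, 1, 0])]

/-- The word of an element of the stabiliser. -/
def solW (w : List ℕ) : List (Fin 6) := w.flatMap fun i => refW.getD i []

/-- Compatibility of two images. -/
def ok (x y i j : ℕ) : Prop :=
  goodE6.tab.pair 6 x y = goodE6.tab.pair 6 (chevE6.simple i) (chevE6.simple j)

instance (x y i j : ℕ) : Decidable (ok x y i j) := inferInstanceAs (Decidable (_ = _))

/-- Three times the first fundamental weight. -/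
def wt : List ℤ := [4, 3, 5, 6, 4, 2]

/-- The condition on images fixing the class of a weight. -/
def wtOk (l : List ℕ) : Prop :=
  ∀ k : Fin chevE6.rank, (3 : ℤ) ∣
    (∑ j : Fin chevE6.rank, wt.getD j 0 * goodE6.rc (l.getD j 0) k) - wt.getD k 0

instance (l : List ℕ) : Decidable (wtOk l) := inferInstanceAs (Decidable (∀ _, _))

set_option synthInstance.maxSize 4000 in
set_option synthInstance.maxHeartbeats 400000 in
theorem search : ∀ a ∈ cand.getD 0 [], ∀ f ∈ cand.getD 5 [], ok f a 5 0 → ok a f 0 5 →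
    ∀ c ∈ cand.getD 2 [], ok c a 2 0 → ok c f 2 5 →
    ∀ e ∈ cand.getD 4 [], ok e a 4 0 → ok e f 4 5 → ok e c 4 2 →
    ∀ d ∈ cand.getD 3 [], ok d a 3 0 → ok d f 3 5 → ok d c 3 2 → ok d e 3 4 →
    ∀ b ∈ cand.getD 1 [], ok b a 1 0 → ok b f 1 5 → ok b c 1 2 → ok b e 1 4 → ok b d 1 3 →
      wtOk [a, b, c, d, e, f] → [a, b, c, d, e, f] ∈ sols.map Prod.fst := by decide +kernel

/-- The image of a root under the linear extension of images of the fundamental roots. -/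
def imR (l : List ℕ) (s : ℕ) (k : Fin chevE6.rank) : ℤ :=
  ∑ j : Fin chevE6.rank, goodE6.rc s j * goodE6.rc (l.getD j 0) k

theorem sols_spec : ∀ p ∈ sols, ∀ j : Fin 6,
    p.1.getD j 0 = (solW p.2).foldr (fun (i : Fin 6) x => chevE6.reflectRoot i x) (chevE6.simple j) := by
  decide +kernel

end Cfsg.Agent.H46.E6O5
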